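import Cfsg.Agent.Lib.FusionAlperin.M23Data
import Cfsg.Agent.Lib.MathieuBlocks.Search
import Cfsg.Agent.Lib.SporTriple.M23Data

/-!
# Fixed points of elements of order 2 and 3 in M23
-/

set_option autoImplicit false
set_option maxRecDepth 8000

namespace Cfsg.Agent.Lib.SporTriple.M23Fix

open Cfsg Cfsg.Agent.Lib.Computation Cfsg.Agent.Lib.Golay
open Cfsg.Agent.Lib.FusionAlperin.MathieuCert Cfsg.Agent.Lib.FusionAlperin.MathieuInst
open Cfsg.Agent.Lib.MathieuBlocks.Search (pwCode pwCode_spec)

/-- All listed elements killed by `p` other than one fix at least `b` points. -/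
def fixOk (p b : ℕ) (L : List ℕ) : Bool :=
  L.all fun c => Nat.beq c oneCode || !Nat.beq (pwCode c p) oneCode || Nat.ble b (pc24 (fixMask c))

theorem groupOk2 : groupOk in23 FusionAlperin.M23Data.gens FusionAlperin.M23Data.els = true := by
  decide +kernel

theorem fixOk2 : fixOk 2 8 (FusionAlperin.M23Data.els.map Prod.fst) = true := by decide +kernel

theorem len2 : (FusionAlperin.M23Data.els.map Prod.fst).length = 2 ^ 7 := by decide +kernel

theorem groupOk3 : groupOk in23 M23Data.gens3 M23Data.els3 = true := by decide +kernel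

theorem fixOk3 : fixOk 3 6 (M23Data.els3.map Prod.fst) = true := by decide +kernel

theorem len3 : (M23Data.els3.map Prod.fst).length = 3 ^ 2 := by decide +kernel

theorem canon_mulP (a b : ℕ) : canon (mulP 24 5 a b) = mulP 24 5 a b := by
  unfold canon mulP
  simp only [forceNat_eq]
  exact packW_congr fun i hi => getW_packW (w := 5) (f := fun x => getW 5 a (getW 5 b x))
    (fun x _ => by rw [getW_eq]; exact Nat.mod_lt _ (Nat.two_pow_pos 5)) hi

theorem pwCode_eq_one {c p : ℕ} (hc : okCode c = true) (hp : 0 < p) (h : gperm c ^ p = 1) :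
    pwCode c p = oneCode := by
  obtain ⟨k, rfl⟩ : ∃ k, p = k + 1 := ⟨p - 1, by omega⟩
  refine eq_of_gperm (pwCode_spec hc _).1 okCode_oneCode ?_ (by decide +kernel) ?_
  · exact canon_mulP c (pwCode c k)
  · rw [(pwCode_spec hc _).2, h, gperm_oneCode]

theorem fixed_le {p k b : ℕ} [Fact p.Prime] {gens : List ℕ} {els : List (ℕ × List ℕ)}
    (hok : groupOk in23 gens els = true) (hlen : (els.map Prod.fst).length = p ^ k)
    (hfac : (Nat.card Spor.M23).factorization p = k) (hfix : fixOk p b (els.map Prod.fst) = true)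
    {z : Spor.M23} (hz : orderOf z = p) :
    b ≤ Nat.card {a // (z : Equiv.Perm GolayPt) a = a} := by
  have D := groupData_of_ok (H := Spor.M23) mem23 hok
  have hcard : Nat.card (genBy gens) = p ^ k := by rw [D.card_eq, hlen]
  obtain ⟨T, hT⟩ : ∃ T : Sylow p Spor.M23,
      (T : Subgroup Spor.M23) = (genBy gens).subgroupOf Spor.M23 := by
    refine ⟨Sylow.ofCard _ ?_, rfl⟩
    rw [hfac, ← hcard]
    exact Nat.card_congr (Subgroup.subgroupOfEquivOfLe D.le).toEquiv
  obtain ⟨S, hS⟩ := (IsPGroup.of_card (p := p) (n := 1)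
    (by rw [Nat.card_zpowers, hz, pow_one]) : IsPGroup p (Subgroup.zpowers z)).exists_le_sylow
  obtain ⟨a, ha⟩ := MulAction.exists_smul_eq Spor.M23 S T
  have hmem : a * z * a⁻¹ ∈ (T : Subgroup Spor.M23) := by
    rw [← ha, Sylow.coe_subgroup_smul]
    exact ⟨z, hS (Subgroup.mem_zpowers z), rfl⟩
  rw [hT, Subgroup.mem_subgroupOf] at hmem
  obtain ⟨c, hc, he⟩ := D.exists_code hmem
  have hok' := (D.ok c hc).1
  have h := List.all_eq_true.mp hfix c hc
  simp only [Bool.or_eq_true, Bool.not_eq_true', Nat.beq_eq, Nat.ble_eq] at h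
  have hp : 0 < p := (Fact.out : p.Prime).pos
  rcases h with (h | h) | h
  · exfalso
    subst h
    rw [gperm_oneCode] at he
    have h1 : a * z * a⁻¹ = 1 := Subtype.ext he.symm
    rw [conj_eq_one_iff] at h1
    rw [h1, orderOf_one] at hz
    exact (Fact.out : p.Prime).one_lt.ne hz
  · exfalso
    rw [← Bool.not_eq_true, Nat.beq_eq] at h
    apply h
    refine pwCode_eq_one hok' hp ?_
    rw [he, ← SubmonoidClass.coe_pow, conj_pow, ← hz, pow_orderOf_eq_one]
    simp
  · refine le_trans h ?_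
    rw [← card_setOfMask, ← Nat.card_eq_finsetCard]
    refine Nat.card_le_card_of_injective
      (fun q => ⟨(a : Equiv.Perm GolayPt)⁻¹ q.1, ?_⟩) (fun q q' e => ?_)
    · have h1 : gperm c q.1 = q.1 := (mem_fixMask hok' q.1).1 (mem_setOfMask.1 q.2)
      rw [he] at h1
      simp only [Subgroup.coe_mul, Subgroup.coe_inv, Equiv.Perm.mul_apply] at h1
      have h2 := congrArg ((a : Equiv.Perm GolayPt)⁻¹ : Equiv.Perm GolayPt) h1
      simpa using h2
    · exact Subtype.ext ((a : Equiv.Perm GolayPt)⁻¹.injective (congrArg Subtype.val e))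

theorem fixed_two {z : Spor.M23} (hz : orderOf z = 2) :
    8 ≤ Nat.card {a // (z : Equiv.Perm GolayPt) a = a} := by
  haveI : Fact (Nat.Prime 2) := ⟨Nat.prime_two⟩
  refine fixed_le groupOk2 len2 ?_ fixOk2 hz
  rw [card23, show (10200960 : ℕ) = 2 ^ 7 * 79695 by norm_num, Nat.factorization_mul (by norm_num)
    (by norm_num), Finsupp.add_apply, Nat.Prime.factorization_pow Nat.prime_two,
    Finsupp.single_eq_same, Nat.factorization_eq_zero_of_not_dvd (by norm_num : ¬ 2 ∣ 79695)]

theorem fixed_three {z : Spor.M23} (hz : orderOf z = 3) :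
    6 ≤ Nat.card {a // (z : Equiv.Perm GolayPt) a = a} := by
  haveI : Fact (Nat.Prime 3) := ⟨Nat.prime_three⟩
  refine fixed_le groupOk3 len3 ?_ fixOk3 hz
  rw [card23, show (10200960 : ℕ) = 3 ^ 2 * 1133440 by norm_num, Nat.factorization_mul (by norm_num)
    (by norm_num), Finsupp.add_apply, Nat.Prime.factorization_pow Nat.prime_three,
    Finsupp.single_eq_same, Nat.factorization_eq_zero_of_not_dvd (by norm_num : ¬ 3 ∣ 1133440)]

end Cfsg.Agent.Lib.SporTriple.M23Fix
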