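import Cfsg.Agent.S1643

/-!
# Subgroups of M23 with elements of order 23, 11 and 3 or 7
-/

set_option autoImplicit false

namespace Cfsg.Agent.Lib.SporTriple.M23Gen

open Cfsg Cfsg.Agent.Lib Cfsg.Agent.Lib.Computation Cfsg.Agent.Lib.Golay
open Cfsg.Agent.Lib.FusionAlperin.MathieuInst Cfsg.Agent.Lib.MathieuBlocks.Search
open Cfsg.Agent.S1643 (m2C w5C cent23 noInv23 cent11' noInv11' facts gperm_order gperm_conj
  cent_of_cert no_conj_of_cert exponents fixNil fix23 m23_le not_sq_dvd split40320)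

theorem arith : ([1, 2, 4, 8, 16, 32, 64, 128].all fun y =>
    [1, 3, 5, 7, 9, 15, 21, 35, 45, 63, 105, 315].all fun z =>
      !(([1, 11].any fun d => Nat.beq (253 * (y * z) % (d * 23)) 0 &&
          Nat.beq (253 * (y * z) / (d * 23) % 23) 1) &&
        ([1, 5].any fun e => Nat.beq (253 * (y * z) % (e * 11)) 0 &&
          Nat.beq (253 * (y * z) / (e * 11) % 11) 1) &&
        (Nat.beq (253 * (y * z) % 3) 0 || Nat.beq (253 * (y * z) % 7) 0)) ||
      Nat.beq (y * z) 40320) = true := by decide +kernel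

/-- A subgroup of prime order is conjugate to a given one when it is Sylow. -/
theorem exists_conj_mem {G : Type*} [Group G] [Finite G] {q : ℕ} [Fact q.Prime]
    (hq : (Nat.card G).factorization q = 1) {x u : G} (hx : orderOf x = q) (hu : orderOf u = q)
    (H : Subgroup G) (huH : u ∈ H) : ∃ g : G, x ∈ H.map (MulAut.conj g).toMonoidHom := by
  let S : Sylow q G := Sylow.ofCard (Subgroup.zpowers x) (by rw [Nat.card_zpowers, hx, hq, pow_one])
  let T : Sylow q G := Sylow.ofCard (Subgroup.zpowers u) (by rw [Nat.card_zpowers, hu, hq, pow_one])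
  obtain ⟨g, hg⟩ := MulAction.exists_smul_eq G T S
  have hm : x ∈ ((g • T : Sylow q G) : Subgroup G) := by rw [hg]; exact Subgroup.mem_zpowers x
  rw [Sylow.coe_subgroup_smul] at hm
  obtain ⟨y, hy, rfl⟩ := hm
  exact ⟨g, y, (Subgroup.zpowers_le.2 huH) hy, rfl⟩

theorem fac23 : (Nat.card Spor.M23).factorization 23 = 1 ∧
    (Nat.card Spor.M23).factorization 11 = 1 := by
  rw [card23]
  constructor
  · rw [show (10200960 : ℕ) = 23 * 443520 by norm_num, Nat.factorization_mul (by norm_num)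
      (by norm_num), Finsupp.add_apply, Nat.Prime.factorization (by norm_num),
      Finsupp.single_eq_same, Nat.factorization_eq_zero_of_not_dvd (by norm_num : ¬ 23 ∣ 443520)]
  · rw [show (10200960 : ℕ) = 11 * 927360 by norm_num, Nat.factorization_mul (by norm_num)
      (by norm_num), Finsupp.add_apply, Nat.Prime.factorization (by norm_num),
      Finsupp.single_eq_same, Nat.factorization_eq_zero_of_not_dvd (by norm_num : ¬ 11 ∣ 927360)]

theorem eq_top (H : Subgroup Spor.M23) {u v w : Spor.M23} {s : ℕ} (hu : u ∈ H) (hv : v ∈ H)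
    (hw : w ∈ H) (hu' : orderOf u = 23) (hv' : orderOf v = 11) (hw' : orderOf w = s)
    (hs : s = 3 ∨ s = 7) : H = ⊤ := by
  obtain ⟨hm, hw5, -, -, hsh, hs23, -, hsp, hs1, hap, ha1, -, -, hms, hwm, -, -⟩ := facts
  have ok : ∀ {c}, inM24 c = true → okCode c = true := fun h => okCode_of_inM24 h
  have ok3 : ∀ {c}, in23 c = true → inM24 c = true := fun {c} h => by
    simp only [in23, Bool.and_eq_true] at h; exact h.1
  haveI : Fact (Nat.Prime 23) := ⟨by norm_num⟩
  haveI : Fact (Nat.Prime 11) := ⟨by norm_num⟩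
  let x : Spor.M23 := ⟨gperm shiftCode, gperm_mem_M24 hsh, gperm_fix (ok hsh) idx_none hs23⟩
  let a : Spor.M23 := ⟨gperm m2C, mem23 _ hm⟩
  let t : Spor.M23 := ⟨gperm w5C, mem23 _ hw5⟩
  have hx : orderOf x = 23 := by
    rw [← Subgroup.orderOf_coe]; exact gperm_order (i := 1) (ok hsh) (by norm_num) hs1 hsp
  have ha : orderOf a = 11 := by
    rw [← Subgroup.orderOf_coe]; exact gperm_order (i := 1) (ok (ok3 hm)) (by norm_num) ha1 hap
  have hax : a * x * a⁻¹ = x ^ 2 := Subtype.ext (by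
    simpa [x, a] using gperm_conj (ok (ok3 hm)) (ok hsh) hms)
  have hta : t * a * t⁻¹ = a ^ 3 := Subtype.ext (by
    simpa [t, a] using gperm_conj (ok (ok3 hw5)) (ok (ok3 hm)) hwm)
  have hcx : ∀ g, g * x = x * g → g ∈ Subgroup.zpowers x :=
    cent_of_cert cent23 m23_le fixNil x rfl
  have hca : ∀ g, g * a = a * g → g ∈ Subgroup.zpowers a :=
    cent_of_cert cent11' m23_le fixNil a rfl
  have hex : ∀ g : Spor.M23, ∀ k < 23, g * x * g⁻¹ = x ^ k → ∃ i < 11, k = 2 ^ i % 23 :=
    exponents (e := 11) hx (by norm_num) (no_conj_of_cert (ok hsh) noInv23 m23_le fixNil x rfl)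
      (by decide +kernel)
  have hea : ∀ g : Spor.M23, ∀ k < 11, g * a * g⁻¹ = a ^ k → ∃ i < 5, k = 3 ^ i % 11 :=
    exponents (e := 5) ha (by norm_num) (no_conj_of_cert (ok (ok3 hm)) noInv11' m23_le fix23 a rfl)
      (by decide +kernel)
  obtain ⟨g₁, hg₁⟩ := exists_conj_mem fac23.1 hx hu' H hu
  obtain ⟨g₂, hg₂⟩ := exists_conj_mem fac23.2 ha hv' H hv
  have hdvd : ∀ {y : Spor.M23}, y ∈ H → orderOf y ∣ Nat.card H :=
    fun {y} hy => Subgroup.orderOf_dvd_natCard H hy
  have h253 : 253 ∣ Nat.card H :=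
    Nat.Coprime.mul_dvd_of_dvd_of_dvd (m := 23) (n := 11) (by norm_num) (hu' ▸ hdvd hu) (hv' ▸ hdvd hv)
  obtain ⟨j, hj⟩ := h253
  have hN : Nat.card H ∣ 10200960 := by rw [← card23]; exact Subgroup.card_subgroup_dvd_card H
  have hj' : j ∣ 40320 := by
    rw [hj, show (10200960 : ℕ) = 253 * 40320 by norm_num] at hN
    exact Nat.dvd_of_mul_dvd_mul_left (by norm_num) hN
  have hmap : ∀ g : Spor.M23, Nat.card (H.map (MulAut.conj g).toMonoidHom) = 253 * j := fun g => by
    rw [Subgroup.card_map_of_injective (MulAut.conj g).injective, hj]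
  obtain ⟨d, hd1, hd2, hd3, -⟩ := SporStruct.SylowCount.count (r := 11) hcx hax hx hex
    (by decide +kernel) (hmap g₁) (not_sq_dvd (hj ▸ hN) rfl (by norm_num)) hg₁
  obtain ⟨e, he1, he2, he3, -⟩ := SporStruct.SylowCount.count (r := 5) hca hta ha hea
    (by decide +kernel) (hmap g₂) (not_sq_dvd (hj ▸ hN) rfl (by norm_num)) hg₂
  have hd : d = 1 ∨ d = 11 := (Nat.dvd_prime (by norm_num : Nat.Prime 11)).1 hd1
  have he : e = 1 ∨ e = 5 := (Nat.dvd_prime (by norm_num : Nat.Prime 5)).1 he1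
  have hs3 : 253 * j % 3 = 0 ∨ 253 * j % 7 = 0 := by
    have := hw' ▸ hdvd hw
    rw [hj] at this
    rcases hs with rfl | rfl
    · exact Or.inl (Nat.mod_eq_zero_of_dvd this)
    · exact Or.inr (Nat.mod_eq_zero_of_dvd this)
  obtain ⟨y, hy, z, hz, hyz⟩ := split40320 hj'
  have key := List.all_eq_true.1 (List.all_eq_true.1 arith y hy) z hz
  simp only [Bool.or_eq_true, Bool.not_eq_true', Bool.and_eq_false_iff, Nat.beq_eq,
    List.any_eq_false, Bool.or_eq_false_iff, Bool.and_eq_true, not_and, ← hyz] at key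
  rcases key with ((h | h) | h) | h
  · exact absurd hd3 (h d (by rcases hd with rfl | rfl <;> simp) (Nat.mod_eq_zero_of_dvd hd2))
  · exact absurd he3 (h e (by rcases he with rfl | rfl <;> simp) (Nat.mod_eq_zero_of_dvd he2))
  · simp only [← Bool.not_eq_true, Nat.beq_eq] at h
    rcases hs3 with h' | h'
    · exact absurd h' h.1
    · exact absurd h' h.2
  · subst h
    exact Subgroup.eq_top_of_card_eq H (by rw [hj, card23])

end Cfsg.Agent.Lib.SporTriple.M23Gen
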