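import Cfsg.Agent.Lib.SporTriple.Scott
import Cfsg.Agent.Lib.SporTriple.M23Fix
import Cfsg.Agent.Lib.SporTriple.M23Gen

/-!
# Prime order triples generating M23

Scott's inequality excludes the exceptions; the others have listed witnesses.
-/

set_option autoImplicit false
set_option maxRecDepth 8000

namespace Cfsg.Agent.Lib.SporTriple.M23Triples

open Cfsg Cfsg.Agent.Lib.Computation Cfsg.Agent.Lib.Golay
open Cfsg.Agent.Lib.FusionAlperin.MathieuCert Cfsg.Agent.Lib.FusionAlperin.MathieuInst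
open Cfsg.Agent.Lib.MathieuBlocks.Search (pwCode pwCode_spec)
open Cfsg.Agent.Lib.SporTriple.M23Data (Row)

/-! ### witnesses -/

/-- The code has order `n`, for a prime `n`. -/
def ordOk (c n : ℕ) : Bool :=
  okCode c && Nat.beq (pwCode c n) oneCode && (List.range 24).any fun i => !Nat.beq (getW 5 c i) i

/-- The check of a row. -/
def rowOk (R : Row) : Bool :=
  in23 R.x && in23 R.y && ordOk R.x R.p && ordOk R.y R.q && ordOk (mulP 24 5 R.x R.y) R.r &&
    ordOk (evalW [R.x, R.y] R.w23) 23 && ordOk (evalW [R.x, R.y] R.w11) 11 &&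
    ordOk (evalW [R.x, R.y] R.ws) R.s && (Nat.beq R.s 3 || Nat.beq R.s 7)

theorem rows_ok : M23Data.rows.all rowOk = true := by decide +kernel

theorem rows_cover : ([2, 3, 5, 7, 11, 23].all fun p => [2, 3, 5, 7, 11, 23].all fun q =>
    [2, 3, 5, 7, 11, 23].all fun r =>
      Nat.blt q p || Nat.blt r q || (Nat.beq p 2 && Nat.beq q 2) || (Nat.beq p 2 && Nat.beq q 3) ||
        (Nat.beq p 2 && Nat.beq q 5 && Nat.beq r 5) || (Nat.beq p 2 && Nat.beq q 5 && Nat.beq r 7) ||
        (Nat.beq p 3 && Nat.beq q 3 && Nat.ble r 7) ||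
        M23Data.rows.any fun R => Nat.beq R.p p && Nat.beq R.q q && Nat.beq R.r r) = true := by
  decide +kernel

theorem orderOf_of_ordOk {c n : ℕ} [Fact n.Prime] (h : ordOk c n = true) {g : Spor.M23}
    (hg : (g : Equiv.Perm GolayPt) = gperm c) : orderOf g = n := by
  simp only [ordOk, Bool.and_eq_true, List.any_eq_true, Bool.not_eq_true', Nat.beq_eq,
    List.mem_range] at h
  obtain ⟨⟨hc, hp⟩, i, hi, hm⟩ := h
  rw [← Subgroup.orderOf_coe, hg]
  refine orderOf_eq_prime ?_ ?_
  · rw [← (pwCode_spec hc n).2, hp, gperm_oneCode]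
  · intro e
    rw [← Bool.not_eq_true, Nat.beq_eq] at hm
    apply hm
    have e' : gperm c (pt i) = pt i := by rw [e]; rfl
    have e2 := congrArg idx e'
    rwa [idx_gperm hc, idx_pt hi] at e2

theorem evalW_mem_gen {H : Subgroup Spor.M23} {gens : List ℕ}
    (hg : ∀ i, okCode (gens.getD i oneCode) = true ∧
      ∃ g ∈ H, (g : Equiv.Perm GolayPt) = gperm (gens.getD i oneCode))
    (w : List ℕ) : okCode (evalW gens w) = true ∧
      ∃ g ∈ H, (g : Equiv.Perm GolayPt) = gperm (evalW gens w) := by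
  induction w using List.reverseRecOn with
  | nil => rw [evalW_nil]; exact ⟨okCode_oneCode, 1, one_mem _, gperm_oneCode.symm⟩
  | append_singleton w i ih =>
    obtain ⟨h1, g, hgm, he⟩ := ih
    obtain ⟨h2, k, hk, hek⟩ := hg i
    rw [evalW_snoc]
    exact ⟨okCode_mulP h1 h2, g * k, mul_mem hgm hk,
      by rw [Subgroup.coe_mul, he, hek, gperm_mul h1 h2]⟩

theorem evalW_mem {x y : Spor.M23} {cx cy : ℕ} (hcx : okCode cx = true) (hcy : okCode cy = true)
    (hx : (x : Equiv.Perm GolayPt) = gperm cx) (hy : (y : Equiv.Perm GolayPt) = gperm cy)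
    (w : List ℕ) : okCode (evalW [cx, cy] w) = true ∧
      ∃ g ∈ Subgroup.closure ({x, y} : Set Spor.M23),
        (g : Equiv.Perm GolayPt) = gperm (evalW [cx, cy] w) := by
  refine evalW_mem_gen (gens := [cx, cy]) (fun i => ?_) w
  match i with
  | 0 =>
    rw [List.getD_cons_zero]
    exact ⟨hcx, x, Subgroup.subset_closure (by simp), hx⟩
  | 1 =>
    rw [List.getD_cons_succ, List.getD_cons_zero]
    exact ⟨hcy, y, Subgroup.subset_closure (by simp), hy⟩
  | k + 2 =>
    rw [List.getD_cons_succ, List.getD_cons_succ, List.getD_nil]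
    exact ⟨okCode_oneCode, 1, one_mem _, gperm_oneCode.symm⟩

theorem exists_of_row {R : Row} (hR : R ∈ M23Data.rows) (hp : R.p.Prime) (hq : R.q.Prime) (hr : R.r.Prime) :
    ∃ x y z : Spor.M23, orderOf x = R.p ∧ orderOf y = R.q ∧ orderOf z = R.r ∧ x * y * z = 1 ∧
      Subgroup.closure {x, y} = ⊤ := by
  have h := List.all_eq_true.1 rows_ok R hR
  simp only [rowOk, Bool.and_eq_true, Bool.or_eq_true, Nat.beq_eq] at h
  obtain ⟨⟨⟨⟨⟨⟨⟨⟨hx, hy⟩, hop⟩, hoq⟩, hor⟩, h23⟩, h11⟩, hos⟩, hs⟩ := h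
  let x : Spor.M23 := ⟨gperm R.x, mem23 _ hx⟩
  let y : Spor.M23 := ⟨gperm R.y, mem23 _ hy⟩
  have okx : okCode R.x = true := by
    simp only [ordOk, Bool.and_eq_true] at hop; exact hop.1.1
  have oky : okCode R.y = true := by
    simp only [ordOk, Bool.and_eq_true] at hoq; exact hoq.1.1
  haveI : Fact R.p.Prime := ⟨hp⟩
  haveI : Fact R.q.Prime := ⟨hq⟩
  haveI : Fact R.r.Prime := ⟨hr⟩
  haveI : Fact (Nat.Prime 23) := ⟨by norm_num⟩
  haveI : Fact (Nat.Prime 11) := ⟨by norm_num⟩
  haveI : Fact R.s.Prime := ⟨by rcases hs with h | h <;> rw [h] <;> norm_num⟩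
  obtain ⟨-, u, hu, hu'⟩ := evalW_mem (x := x) (y := y) okx oky rfl rfl R.w23
  obtain ⟨-, v, hv, hv'⟩ := evalW_mem (x := x) (y := y) okx oky rfl rfl R.w11
  obtain ⟨-, w, hw, hw'⟩ := evalW_mem (x := x) (y := y) okx oky rfl rfl R.ws
  refine ⟨x, y, (x * y)⁻¹, orderOf_of_ordOk hop rfl, orderOf_of_ordOk hoq rfl, ?_,
    mul_inv_cancel _, ?_⟩
  · rw [orderOf_inv]
    exact orderOf_of_ordOk hor (gperm_mul okx oky).symm
  · exact M23Gen.eq_top _ hu hv hw (orderOf_of_ordOk h23 hu') (orderOf_of_ordOk h11 hv')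
      (orderOf_of_ordOk hos hw') hs

/-! ### exceptions -/

theorem shift_orbit : (inM24 shiftCode && Nat.beq (getW 5 shiftCode 23) 23 &&
    (List.range 23).all fun i => Nat.beq (getW 5 (pwCode shiftCode i) 0) i) = true := by
  decide +kernel

theorem card_pts : Fintype.card GolayPt = 24 := by decide +kernel

theorem scott_bound {x y z : Spor.M23} (hxyz : x * y * z = 1)
    (hgen : Subgroup.closure {x, y} = ⊤) :
    Scott.fixDim (x : Equiv.Perm GolayPt) + Scott.fixDim (y : Equiv.Perm GolayPt) +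
      Scott.fixDim (z : Equiv.Perm GolayPt) ≤ 28 := by
  have hz : (z : Equiv.Perm GolayPt) = ((x : Equiv.Perm GolayPt) * y)⁻¹ := by
    rw [← Subgroup.coe_mul, ← Subgroup.coe_inv, eq_inv_of_mul_eq_one_right hxyz]
  rw [hz, Scott.fixDim_inv]
  have h := Scott.scott (x : Equiv.Perm GolayPt) y {none, some 0} ?_
  · rw [card_pts, show ({none, some 0} : Finset GolayPt).card = 2 by decide +kernel] at h
    omega
  · intro a
    cases a with
    | none => exact ⟨none, by simp, 1, one_mem _, rfl⟩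
    | some t =>
      refine ⟨some 0, by simp, ?_⟩
      have hs := shift_orbit
      simp only [Bool.and_eq_true, List.all_eq_true, Nat.beq_eq, List.mem_range] at hs
      obtain ⟨⟨hm, hf⟩, horb⟩ := hs
      have hok := okCode_of_inM24 hm
      let S : Spor.M23 := ⟨gperm shiftCode, gperm_mem_M24 hm, gperm_fix hok idx_none hf⟩
      have hi : idx (some t : GolayPt) < 23 := by
        refine lt_of_le_of_ne (Nat.le_of_lt_succ (idx_lt _)) fun e => ?_
        exact Option.some_ne_none t (idx_injective (e.trans idx_none.symm))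
      refine ⟨(S : Equiv.Perm GolayPt) ^ idx (some t : GolayPt), ?_, ?_⟩
      · have hmem : S ^ idx (some t : GolayPt) ∈ Subgroup.closure ({x, y} : Set Spor.M23) :=
          hgen ▸ Subgroup.mem_top _
        have := Subgroup.mem_map_of_mem Spor.M23.subtype hmem
        rw [MonoidHom.map_closure, Set.image_pair] at this
        simpa using this
      · apply idx_injective
        show idx ((gperm shiftCode ^ _) _) = _
        rw [← (pwCode_spec hok _).2, idx_gperm (pwCode_spec hok _).1, idx_zero, horb _ hi]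

theorem dim_bound {z : Spor.M23} {p f : ℕ} (hz : orderOf z = p)
    (hf : f ≤ Nat.card {a // (z : Equiv.Perm GolayPt) a = a}) :
    24 + (p - 1) * f ≤ p * Scott.fixDim (z : Equiv.Perm GolayPt) := by
  rw [← card_pts]
  exact Scott.le_fixDim (by rw [Subgroup.orderOf_coe, hz]) hf

/-- An element of prime order fixes at least `24 % p` points. -/
theorem fixed_mod {z : Spor.M23} {p f : ℕ} (hz : orderOf z = p) (hp : p.Prime) (hf : f = 24 % p) :
    f ≤ Nat.card {a // (z : Equiv.Perm GolayPt) a = a} := by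
  haveI : Fact p.Prime := ⟨hp⟩
  have hP : IsPGroup p (Subgroup.zpowers (z : Equiv.Perm GolayPt)) :=
    IsPGroup.of_card (n := 1) (by rw [Nat.card_zpowers, Subgroup.orderOf_coe, hz, pow_one])
  have h := hP.card_modEq_card_fixedPoints GolayPt
  rw [Nat.card_eq_fintype_card, card_pts, Nat.ModEq] at h
  have e : Nat.card (MulAction.fixedPoints (Subgroup.zpowers (z : Equiv.Perm GolayPt)) GolayPt) ≤
      Nat.card {a // (z : Equiv.Perm GolayPt) a = a} :=
    Nat.card_le_card_of_injective (fun a => ⟨a.1, a.2 ⟨_, Subgroup.mem_zpowers _⟩⟩)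
      (fun a b e => Subtype.ext (congrArg Subtype.val e :))
  rw [hf, h]
  exact (Nat.mod_le _ _).trans e

theorem no_two_three {x y z : Spor.M23} (hx : orderOf x = 2) (hy : orderOf y = 3)
    (hxyz : x * y * z = 1) : Subgroup.closure {x, y} ≠ ⊤ := fun hgen => by
  have := scott_bound hxyz hgen
  have := dim_bound hx (M23Fix.fixed_two hx)
  have := dim_bound hy (M23Fix.fixed_three hy)
  have := Scott.one_le_fixDim (z : Equiv.Perm GolayPt)
  omega

theorem no_two_five {x y z : Spor.M23} {r : ℕ} (hr : r = 5 ∨ r = 7) (hx : orderOf x = 2)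
    (hy : orderOf y = 5) (hz : orderOf z = r)
    (hxyz : x * y * z = 1) : Subgroup.closure {x, y} ≠ ⊤ := fun hgen => by
  have := scott_bound hxyz hgen
  have := dim_bound hx (M23Fix.fixed_two hx)
  have := dim_bound hy (f := 4) (fixed_mod hy (by norm_num) (by norm_num))
  rcases hr with rfl | rfl
  · have := dim_bound hz (f := 4) (fixed_mod hz (by norm_num) (by norm_num))
    omega
  · have := dim_bound hz (f := 3) (fixed_mod hz (by norm_num) (by norm_num))
    omega

theorem no_three_three {x y z : Spor.M23} {r : ℕ} (hr : r = 3 ∨ r = 5 ∨ r = 7) (hx : orderOf x = 3)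
    (hy : orderOf y = 3) (hz : orderOf z = r)
    (hxyz : x * y * z = 1) : Subgroup.closure {x, y} ≠ ⊤ := fun hgen => by
  have := scott_bound hxyz hgen
  have := dim_bound hx (M23Fix.fixed_three hx)
  have := dim_bound hy (M23Fix.fixed_three hy)
  rcases hr with rfl | rfl | rfl
  · have := dim_bound hz (M23Fix.fixed_three hz)
    omega
  · have := dim_bound hz (f := 4) (fixed_mod hz (by norm_num) (by norm_num))
    omega
  · have := dim_bound hz (f := 3) (fixed_mod hz (by norm_num) (by norm_num))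
    omega

theorem mem_primes {p : ℕ} (hp : p.Prime) (h : p ∣ 10200960) :
    p ∈ [2, 3, 5, 7, 11, 23] := by
  rw [show (10200960 : ℕ) = 2 ^ 7 * 3 ^ 2 * 5 * 7 * 11 * 23 by norm_num] at h
  have pm : ∀ {a b}, p ∣ a * b → p ∣ a ∨ p ∣ b := fun h => (Nat.Prime.dvd_mul hp).1 h
  rcases pm h with h | h
  rcases pm h with h | h
  rcases pm h with h | h
  rcases pm h with h | h
  rcases pm h with h | h
  all_goals
    first
      | (have := (Nat.prime_dvd_prime_iff_eq hp (by norm_num)).1 (hp.dvd_of_dvd_pow h); simp [this])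
      | (have := (Nat.prime_dvd_prime_iff_eq hp (by norm_num)).1 h; simp [this])

theorem main (p q r : ℕ) (hp : p.Prime) (hq : q.Prime)
    (hr : r.Prime) (hpq : p ≤ q) (hqr : q ≤ r) (hp2 : ¬ (p = 2 ∧ q = 2))
    (hdvd : p ∣ 10200960 ∧ q ∣ 10200960 ∧ r ∣ 10200960) :
    (∃ x y z : Cfsg.Spor.M23, orderOf x = p ∧ orderOf y = q ∧ orderOf z = r ∧ x * y * z = 1 ∧
        Subgroup.closure {x, y} = ⊤) ↔
      ¬ ((p = 2 ∧ q = 3) ∨ (p = 2 ∧ q = 5 ∧ r = 5) ∨ (p = 2 ∧ q = 5 ∧ r = 7) ∨
        (p = 3 ∧ q = 3 ∧ r ≤ 7)) := by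
  constructor
  · rintro ⟨x, y, z, hx, hy, hz, hxyz, hgen⟩ (⟨rfl, rfl⟩ | ⟨rfl, rfl, rfl⟩ | ⟨rfl, rfl, rfl⟩ |
      ⟨rfl, rfl, h7⟩)
    · exact no_two_three hx hy hxyz hgen
    · exact no_two_five (Or.inl rfl) hx hy hz hxyz hgen
    · exact no_two_five (Or.inr rfl) hx hy hz hxyz hgen
    · refine no_three_three ?_ hx hy hz hxyz hgen
      have := mem_primes hr hdvd.2.2
      simp only [List.mem_cons, List.not_mem_nil, or_false] at this
      omega
  · intro hne
    have h := List.all_eq_true.1 (List.all_eq_true.1 (List.all_eq_true.1 rows_cover p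
      (mem_primes hp hdvd.1)) q (mem_primes hq hdvd.2.1)) r (mem_primes hr hdvd.2.2)
    simp only [Bool.or_eq_true, Bool.and_eq_true, Nat.blt_eq, Nat.beq_eq, Nat.ble_eq,
      List.any_eq_true] at h
    rcases h with ((((((h | h) | h) | h) | h) | h) | h) | ⟨R, hR, ⟨rfl, rfl⟩, rfl⟩
    all_goals try omega
    exact exists_of_row hR hp hq hr

end Cfsg.Agent.Lib.SporTriple.M23Triples
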