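import Mathlib

/-!
# Scott's inequality for two permutations and their product
-/

set_option autoImplicit false

set_option linter.unusedSectionVars false

namespace Cfsg.Agent.Lib.SporTriple.Scott

variable {α : Type*} [Fintype α]

/-- Dimension of the space of functions fixed by a permutation. -/
noncomputable def fixDim (σ : Equiv.Perm α) : ℕ :=
  Module.finrank ℚ (LinearMap.ker (LinearMap.id - LinearMap.funLeft ℚ ℚ σ))

theorem mem_ker {σ : Equiv.Perm α} {f : α → ℚ} :
    f ∈ LinearMap.ker (LinearMap.id - LinearMap.funLeft ℚ ℚ σ) ↔ ∀ a, f (σ a) = f a := by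
  rw [LinearMap.mem_ker, LinearMap.sub_apply, sub_eq_zero, funext_iff]
  simp [LinearMap.funLeft_apply, eq_comm]

theorem fixDim_inv (σ : Equiv.Perm α) : fixDim σ⁻¹ = fixDim σ := by
  unfold fixDim
  congr 2
  all_goals ext f
  all_goals rw [mem_ker, mem_ker]
  all_goals exact ⟨fun h a => by simpa using (h (σ a)).symm, fun h a => by simpa using (h (σ⁻¹ a)).symm⟩

theorem one_le_fixDim [Nonempty α] (σ : Equiv.Perm α) : 1 ≤ fixDim σ := by
  unfold fixDim
  rw [Nat.one_le_iff_ne_zero, Ne, Submodule.finrank_eq_zero, Submodule.eq_bot_iff]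
  intro h
  have h1 := congrFun (h (fun _ => (1 : ℚ)) (mem_ker.2 fun _ => rfl)) (Classical.arbitrary α)
  simp at h1

/-- A permutation of prime order with `f` fixed points fixes at least `f + (n - f) / p` dimensions. -/
theorem le_fixDim [DecidableEq α] {p : ℕ} {σ : Equiv.Perm α} (hσ : orderOf σ = p)
    {f : ℕ} (hf : f ≤ Nat.card {a // σ a = a}) :
    Fintype.card α + (p - 1) * f ≤ p * fixDim σ := by
  classical
  set H := Subgroup.zpowers σ
  have hH : Fintype.card H = p := by rw [← Nat.card_eq_fintype_card, Nat.card_zpowers, hσ]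
  have hle : Fintype.card (MulAction.orbitRel.Quotient H α) ≤ fixDim σ := by
    let T : (MulAction.orbitRel.Quotient H α → ℚ) →ₗ[ℚ] (α → ℚ) :=
      LinearMap.funLeft ℚ ℚ (Quotient.mk (MulAction.orbitRel H α))
    have hinj : Function.Injective T :=
      LinearMap.funLeft_injective_of_surjective ℚ ℚ _ (Quotient.mk_surjective)
    rw [← Module.finrank_pi (ι := MulAction.orbitRel.Quotient H α) ℚ,
      ← LinearMap.finrank_range_of_inj hinj]
    refine Submodule.finrank_mono ?_
    rintro _ ⟨g, rfl⟩
    rw [mem_ker]
    intro a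
    simp only [T, LinearMap.funLeft_apply]
    exact congrArg g (Quotient.sound ⟨⟨σ, Subgroup.mem_zpowers σ⟩, rfl⟩)
  have hb := MulAction.sum_card_fixedBy_eq_card_orbits_mul_card_group H α
  rw [hH] at hb
  rw [← Finset.add_sum_erase Finset.univ _ (Finset.mem_univ (1 : H))] at hb
  have h1 : Fintype.card (MulAction.fixedBy α (1 : H)) = Fintype.card α :=
    Fintype.card_congr (Equiv.subtypeUnivEquiv fun a => by simp [MulAction.fixedBy])
  have h2 : ∀ g ∈ Finset.univ.erase (1 : H), f ≤ Fintype.card (MulAction.fixedBy α g) := by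
    intro g _
    refine hf.trans ?_
    rw [← Nat.card_eq_fintype_card]
    refine Nat.card_le_card_of_injective (fun a => ⟨a.1, ?_⟩) (fun a b h => ?_)
    · obtain ⟨k, hk⟩ := g.2
      show (g : Equiv.Perm α) a.1 = a.1
      rw [← hk]
      exact Equiv.Perm.zpow_apply_eq_self_of_apply_eq_self a.2 k
    · exact Subtype.ext (congrArg Subtype.val h :)
  have h3 := Finset.card_nsmul_le_sum _ _ f h2
  rw [Finset.card_erase_of_mem (Finset.mem_univ _), Finset.card_univ, hH, smul_eq_mul] at h3
  rw [h1] at hb
  have hb' : Fintype.card α + (p - 1) * f ≤ Fintype.card (Quotient (MulAction.orbitRel H α)) * p := by omega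
  calc Fintype.card α + (p - 1) * f
      ≤ Fintype.card (MulAction.orbitRel.Quotient H α) * p := by convert hb' using 3
    _ ≤ fixDim σ * p := Nat.mul_le_mul_right p hle
    _ = p * fixDim σ := Nat.mul_comm _ _

/-- The inequality of Scott for permutations: the generated group meets every orbit in `R`. -/
theorem scott [DecidableEq α] (x y : Equiv.Perm α) (R : Finset α)
    (hR : ∀ a, ∃ r ∈ R, ∃ g ∈ Subgroup.closure ({x, y} : Set (Equiv.Perm α)), g r = a) :
    fixDim x + fixDim y + fixDim (x * y) ≤ Fintype.card α + 2 * R.card := by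
  set Lx := LinearMap.funLeft ℚ ℚ (x : α → α)
  set A := LinearMap.id - Lx
  set B := LinearMap.id - LinearMap.funLeft ℚ ℚ (y : α → α)
  set C := LinearMap.id - LinearMap.funLeft ℚ ℚ ((x * y : Equiv.Perm α) : α → α)
  have hC : ∀ v, C v = A v + B (Lx v) := by
    intro v; funext a
    simp [A, B, C, Lx, LinearMap.funLeft_apply]
  set U := LinearMap.range A ⊔ LinearMap.range B with hU
  let δ : (LinearMap.range A × LinearMap.range B × LinearMap.range C) →ₗ[ℚ] (α → ℚ) :=
    (LinearMap.range A).subtype.coprod ((LinearMap.range B).subtype.coprod (-(LinearMap.range C).subtype))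
  let β : (α → ℚ) →ₗ[ℚ] (LinearMap.range A × LinearMap.range B × LinearMap.range C) :=
    A.rangeRestrict.prod ((B.rangeRestrict.comp Lx).prod C.rangeRestrict)
  have hδβ : LinearMap.range β ≤ LinearMap.ker δ := by
    rintro _ ⟨v, rfl⟩
    rw [LinearMap.mem_ker]
    show A v + (B (Lx v) + -C v) = 0
    rw [hC]; abel
  have hδU : U ≤ LinearMap.range δ := by
    refine sup_le ?_ ?_
    · intro a ha; exact ⟨(⟨a, ha⟩, 0, 0), by simp [δ]⟩
    · intro b hb; exact ⟨(0, ⟨b, hb⟩, 0), by simp [δ]⟩
  -- orbits

  have hker : Module.finrank ℚ (LinearMap.ker β) ≤ R.card := by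
    let E : LinearMap.ker β →ₗ[ℚ] (R → ℚ) :=
      (LinearMap.funLeft ℚ ℚ (fun r : R => (r : α))).comp (LinearMap.ker β).subtype
    have hE : Function.Injective E := by
      rw [← LinearMap.ker_eq_bot, Submodule.eq_bot_iff]
      rintro ⟨v, hv⟩ he
      rw [LinearMap.mem_ker] at hv he
      have hx : ∀ a, v (x a) = v a := by
        have h := congrArg (fun t => ((t.1 : LinearMap.range A) : α → ℚ)) hv
        exact mem_ker.1 h
      have hy : ∀ a, v (y a) = v a := by
        have h : B (Lx v) = 0 := congrArg (fun t => ((t.2.1 : LinearMap.range B) : α → ℚ)) hv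
        have hxv : Lx v = v := funext hx
        rw [hxv] at h
        exact mem_ker.1 h
      apply Subtype.ext
      funext a
      obtain ⟨r, hr, g, hg, rfl⟩ := hR a
      have hg' : ∀ b, v (g b) = v b := by
        induction hg using Subgroup.closure_induction with
        | mem g hg => rcases hg with rfl | rfl <;> assumption
        | one => intro b; rfl
        | mul g h _ _ ihg ihh => intro b; rw [Equiv.Perm.mul_apply, ihg, ihh]
        | inv g _ ihg => intro b; have := ihg (g⁻¹ b); simpa using this.symm
      show v (g r) = 0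
      rw [hg']
      exact congrFun he ⟨r, hr⟩
    calc _ ≤ Module.finrank ℚ (R → ℚ) := LinearMap.finrank_le_finrank_of_injective hE
      _ = R.card := by rw [Module.finrank_pi]; simp
  have hdim : Fintype.card α ≤ Module.finrank ℚ U + R.card := by
    let S : Submodule ℚ (α → ℚ) := Submodule.span ℚ ↑(R.image fun r => Pi.single r (1 : ℚ))
    let e₁ : α → α → ℚ := fun b => Pi.single b (1 : ℚ)
    have hone : ∀ g ∈ Subgroup.closure ({x, y} : Set (Equiv.Perm α)), ∀ b,
        e₁ (g b) - e₁ b ∈ U := by
      intro g hg
      induction hg using Subgroup.closure_induction with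
      | mem g hg =>
        intro b
        have e : e₁ (g b) - e₁ b =
            (LinearMap.id - LinearMap.funLeft ℚ ℚ (g : α → α) : (α → ℚ) →ₗ[ℚ] (α → ℚ)) (e₁ (g b)) := by
          funext a
          simp [e₁, LinearMap.funLeft_apply, Pi.single_apply]
        rw [e]
        rcases hg with rfl | rfl
        · exact Submodule.mem_sup_left ⟨_, rfl⟩
        · exact Submodule.mem_sup_right ⟨_, rfl⟩
      | one => intro b; simp
      | mul g h _ _ ihg ihh =>
        intro b
        have := U.add_mem (ihg (h b)) (ihh b)
        rwa [sub_add_sub_cancel] at this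
      | inv g _ ihg =>
        intro b
        have := U.neg_mem (ihg (g⁻¹ b))
        simpa using this
    have htop : U ⊔ S = ⊤ := by
      rw [eq_top_iff]
      intro v _
      rw [pi_eq_sum_univ v]
      refine Submodule.sum_mem _ fun a _ => Submodule.smul_mem _ _ ?_
      obtain ⟨r, hr, g, hg, rfl⟩ := hR a
      have e : (fun j => if g r = j then (1 : ℚ) else 0) =
          (e₁ (g r) - e₁ r) + e₁ r := by
        funext j; simp [e₁, Pi.single_apply, eq_comm]
      rw [e]
      exact Submodule.add_mem_sup (hone g hg r)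
        (Submodule.subset_span (by simp only [Finset.coe_image]; exact ⟨r, hr, rfl⟩))
    have h1 := Submodule.finrank_add_le_finrank_add_finrank U S
    have h2 : Module.finrank ℚ S ≤ R.card :=
      (finrank_span_finset_le_card _).trans Finset.card_image_le
    rw [htop, finrank_top, Module.finrank_pi] at h1
    omega
  -- counting
  have nA := A.finrank_range_add_finrank_ker
  have nB := B.finrank_range_add_finrank_ker
  have nC := C.finrank_range_add_finrank_ker
  have nβ := β.finrank_range_add_finrank_ker
  have nδ := δ.finrank_range_add_finrank_ker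
  have l1 := Submodule.finrank_mono hδβ
  have l2 := Submodule.finrank_mono hδU
  rw [Module.finrank_prod, Module.finrank_prod] at nδ
  rw [Module.finrank_pi] at nA nB nC nβ
  show Module.finrank ℚ (LinearMap.ker A) + Module.finrank ℚ (LinearMap.ker B) +
    Module.finrank ℚ (LinearMap.ker C) ≤ _
  omega

end Cfsg.Agent.Lib.SporTriple.Scott
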